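import Cfsg.Agent.Lib.Helper77.Feit.Basic
import Cfsg.Agent.Lib.Helper77.Feit.Special

/-! # S3430/S4423: a verified checker for `2 n^2 + n < Φ_n(a)`, `n ≤ 90` -/

set_option autoImplicit false

namespace Cfsg.Agent.Lib.Helper77.Feit

open Cfsg.Agent.S2904 Polynomial

theorem natPhi_one (x : ℕ) (hx : 1 ≤ x) : natPhi 1 x = x - 1 := by
  unfold natPhi
  rw [cyclotomic_one]
  simp only [eval_sub, eval_X, eval_one]
  omega

theorem big_of_pow (n a a0 X : ℕ) (hn : 1 < n) (ha0 : 2 ≤ a0) (h : X ≤ (a0 - 1) ^ n.totient)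
    (ha : a0 ≤ a) : X < natPhi n a :=
  lt_of_le_of_lt (h.trans (Nat.pow_le_pow_left (by omega) _)) (lt_natPhi n a hn (by omega))

theorem big_of_dvd (m r a X : ℕ) (hr : r.Prime) (hm : 0 < m) (hd : r ∣ m) (ha : 1 < a)
    (h : X ≤ (a ^ r - 1) ^ m.totient) : X < natPhi (m * r) a := by
  rw [natPhi_expand_of_dvd m a r hr hd]
  have hm1 : 1 < m := lt_of_lt_of_le hr.one_lt (Nat.le_of_dvd hm hd)
  exact lt_of_le_of_lt h (lt_natPhi m (a ^ r) hm1 (Nat.one_lt_pow hr.ne_zero ha))

theorem big_of_not_dvd (m r a X : ℕ) (hr : r.Prime) (hm : 2 ≤ m) (hd : ¬ r ∣ m) (ha : 1 < a)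
    (h : X * (a + 1) ^ m.totient ≤ (a ^ r - 1) ^ m.totient) : X < natPhi (m * r) a := by
  have h1 := natPhi_expand_of_not_dvd m a r hr hd
  have h2 := lt_natPhi m (a ^ r) (by omega) (Nat.one_lt_pow hr.ne_zero ha)
  have h3 := natPhi_le m a ha
  rw [h1] at h2
  have h4 : X * (a + 1) ^ m.totient < natPhi (m * r) a * (a + 1) ^ m.totient :=
    lt_of_le_of_lt h (lt_of_lt_of_le h2 (Nat.mul_le_mul_left _ h3))
  exact lt_of_mul_lt_mul_right h4 (Nat.zero_le _)

theorem big_of_prime (r a X : ℕ) (hr : r.Prime) (ha : 1 < a) (h : X * (a - 1) < a ^ r - 1) :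
    X < natPhi r a := by
  have h1 := natPhi_expand_of_not_dvd 1 a r hr (by
    intro hd
    exact hr.one_lt.ne' (Nat.dvd_one.1 hd))
  rw [natPhi_one _ (Nat.one_le_pow _ _ (by omega)), natPhi_one _ (by omega), one_mul] at h1
  rw [h1] at h
  exact lt_of_mul_lt_mul_right h (Nat.zero_le _)

/-- the primes `≤ 90`. -/
def primesL : List ℕ :=
  [2, 3, 5, 7, 11, 13, 17, 19, 23, 29, 31, 37, 41, 43, 47, 53, 59, 61, 67, 71, 73, 79, 83, 89]

theorem prime_of_mem_primesL (r : ℕ) (h : r ∈ primesL) : r.Prime := by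
  simp only [primesL, List.mem_cons, List.not_mem_nil, or_false] at h
  rcases h with h | h | h | h | h | h | h | h | h | h | h | h | h | h | h | h | h | h | h | h | h |
    h | h | h <;> subst h <;> norm_num

/-- checker for one pair. -/
def chkA (n a : ℕ) : Bool :=
  primesL.any fun r =>
    n % r == 0 &&
      (if n / r == 1 then decide ((2 * n ^ 2 + n) * (a - 1) < a ^ r - 1)
       else if (n / r) % r == 0 then decide (2 * n ^ 2 + n ≤ (a ^ r - 1) ^ (n / r).totient)
       else decide ((2 * n ^ 2 + n) * (a + 1) ^ (n / r).totient ≤ (a ^ r - 1) ^ (n / r).totient))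

theorem chkA_sound (n a : ℕ) (hn : 3 ≤ n) (ha : 2 ≤ a) (h : chkA n a = true) :
    2 * n ^ 2 + n < natPhi n a := by
  unfold chkA at h
  rw [List.any_eq_true] at h
  obtain ⟨r, hrL, hr⟩ := h
  have hrp := prime_of_mem_primesL r hrL
  rw [Bool.and_eq_true, beq_iff_eq] at hr
  obtain ⟨hmod, hr⟩ := hr
  have hnr : n = n / r * r := (Nat.div_mul_cancel (Nat.dvd_of_mod_eq_zero hmod)).symm
  set m := n / r with hm
  have hm0 : 0 < m := Nat.pos_of_ne_zero (by
    intro h0
    rw [h0] at hnr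
    omega)
  split_ifs at hr with h1 h2
  · rw [beq_iff_eq] at h1
    have hnr' : n = r := by rw [hnr, h1, one_mul]
    rw [decide_eq_true_eq] at hr
    have := big_of_prime r a _ hrp (by omega) hr
    rwa [← hnr'] at this
  · rw [beq_iff_eq] at h2
    rw [decide_eq_true_eq] at hr
    have := big_of_dvd m r a _ hrp hm0 (Nat.dvd_of_mod_eq_zero h2) (by omega) hr
    rwa [← hnr] at this
  · rw [beq_iff_eq] at h1 h2
    rw [decide_eq_true_eq] at hr
    have := big_of_not_dvd m r a _ hrp (by omega) (fun hd => h2 (Nat.mod_eq_zero_of_dvd hd))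
      (by omega) hr
    rwa [← hnr] at this

/-- checker for one `n`, all `a ≥ 2`. -/
def chkN (n : ℕ) : Bool :=
  (List.range 11).any fun a0 =>
    decide (2 ≤ a0) && decide (2 * n ^ 2 + n ≤ (a0 - 1) ^ n.totient) &&
      (List.range a0).all fun a => decide (a < 2) || chkA n a || special.contains (a, n)

theorem chkN_sound (n : ℕ) (hn : 3 ≤ n) (h : chkN n = true) (a : ℕ) (ha : 2 ≤ a)
    (hsp : (a, n) ∉ special) : 2 * n ^ 2 + n < natPhi n a := by
  unfold chkN at h
  rw [List.any_eq_true] at h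
  obtain ⟨a0, -, h⟩ := h
  rw [Bool.and_eq_true, Bool.and_eq_true, decide_eq_true_eq, decide_eq_true_eq,
    List.all_eq_true] at h
  obtain ⟨⟨h1, h2⟩, h3⟩ := h
  by_cases hlt : a < a0
  · have := h3 a (List.mem_range.2 hlt)
    rw [Bool.or_eq_true, Bool.or_eq_true, decide_eq_true_eq] at this
    rcases this with (h4 | h4) | h4
    · omega
    · exact chkA_sound n a hn ha h4
    · exact absurd (List.contains_iff_mem.1 h4) hsp
  · exact big_of_pow n a a0 _ (by omega) h1 h2 (by omega)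

set_option maxRecDepth 100000 in
theorem chkN_all : ∀ n < 91, 3 ≤ n → chkN n = true := by
  decide +kernel

theorem big_small (n a : ℕ) (hn : 3 ≤ n) (hn' : n ≤ 90) (ha : 2 ≤ a) (hsp : (a, n) ∉ special) :
    2 * n ^ 2 + n < natPhi n a :=
  chkN_sound n hn (chkN_all n (by omega) hn) a ha hsp

end Cfsg.Agent.Lib.Helper77.Feit
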