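import Cfsg.Agent.Lib.Helper77.Feit.Special

/-! # S3430 piece F6: the special pairs -/

set_option autoImplicit false

namespace Cfsg.Agent.Lib.Helper77.Feit

theorem feit_special (a n : ℕ) (h : (a, n) ∈ special)
    (h2 : ¬ (a = 2 ∧ (n = 4 ∨ n = 6 ∨ n = 10 ∨ n = 12 ∨ n = 18)))
    (h3 : ¬ (a = 3 ∧ (n = 4 ∨ n = 6))) (h4 : ¬ (a = 5 ∧ n = 6)) :
    ∃ p : ℕ, p.Prime ∧ p ∣ a ^ n - 1 ∧ (∀ i : ℕ, 1 ≤ i → i < n → ¬ p ∣ a ^ i - 1) ∧
      (n + 1 < p ∨ p ^ 2 ∣ a ^ n - 1) := by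
  simp only [special, List.mem_cons, Prod.mk.injEq, List.mem_nil_iff, or_false] at h
  rcases h with ⟨rfl, rfl⟩ | ⟨rfl, rfl⟩ | ⟨rfl, rfl⟩ | ⟨rfl, rfl⟩ | ⟨rfl, rfl⟩ | ⟨rfl, rfl⟩ | ⟨rfl, rfl⟩ | ⟨rfl, rfl⟩ | ⟨rfl, rfl⟩ | ⟨rfl, rfl⟩ | ⟨rfl, rfl⟩ | ⟨rfl, rfl⟩ | ⟨rfl, rfl⟩ | ⟨rfl, rfl⟩ | ⟨rfl, rfl⟩ | ⟨rfl, rfl⟩ | ⟨rfl, rfl⟩ | ⟨rfl, rfl⟩ | ⟨rfl, rfl⟩ | ⟨rfl, rfl⟩ | ⟨rfl, rfl⟩ | ⟨rfl, rfl⟩ | ⟨rfl, rfl⟩ | ⟨rfl, rfl⟩ | ⟨rfl, rfl⟩ | ⟨rfl, rfl⟩ | ⟨rfl, rfl⟩ | ⟨rfl, rfl⟩ | ⟨rfl, rfl⟩ | ⟨rfl, rfl⟩ | ⟨rfl, rfl⟩ | ⟨rfl, rfl⟩ | ⟨rfl, rfl⟩ | ⟨rfl, rfl⟩ | ⟨rfl, rfl⟩ | ⟨rfl, rfl⟩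
  · exact ⟨7, by norm_num, by norm_num, fun i h1 h2 => by interval_cases i <;> norm_num,
      Or.inl (by norm_num)⟩
  · exact ⟨13, by norm_num, by norm_num, fun i h1 h2 => by interval_cases i <;> norm_num,
      Or.inl (by norm_num)⟩
  · exact ⟨7, by norm_num, by norm_num, fun i h1 h2 => by interval_cases i <;> norm_num,
      Or.inl (by norm_num)⟩
  · exact absurd (by norm_num) h2
  · exact absurd (by norm_num) h3
  · exact ⟨17, by norm_num, by norm_num, fun i h1 h2 => by interval_cases i <;> norm_num,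
      Or.inl (by norm_num)⟩
  · exact ⟨13, by norm_num, by norm_num, fun i h1 h2 => by interval_cases i <;> norm_num,
      Or.inl (by norm_num)⟩
  · exact ⟨37, by norm_num, by norm_num, fun i h1 h2 => by interval_cases i <;> norm_num,
      Or.inl (by norm_num)⟩
  · exact ⟨31, by norm_num, by norm_num, fun i h1 h2 => by interval_cases i <;> norm_num,
      Or.inl (by norm_num)⟩
  · exact absurd (by norm_num) h2
  · exact absurd (by norm_num) h3
  · exact ⟨13, by norm_num, by norm_num, fun i h1 h2 => by interval_cases i <;> norm_num,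
      Or.inl (by norm_num)⟩
  · exact absurd (by norm_num) h4
  · exact ⟨31, by norm_num, by norm_num, fun i h1 h2 => by interval_cases i <;> norm_num,
      Or.inl (by norm_num)⟩
  · exact ⟨43, by norm_num, by norm_num, fun i h1 h2 => by interval_cases i <;> norm_num,
      Or.inl (by norm_num)⟩
  · exact ⟨19, by norm_num, by norm_num, fun i h1 h2 => by interval_cases i <;> norm_num,
      Or.inl (by norm_num)⟩
  · exact ⟨73, by norm_num, by norm_num, fun i h1 h2 => by interval_cases i <;> norm_num,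
      Or.inl (by norm_num)⟩
  · exact ⟨17, by norm_num, by norm_num, fun i h1 h2 => by interval_cases i <;> norm_num,
      Or.inl (by norm_num)⟩
  · exact ⟨41, by norm_num, by norm_num, fun i h1 h2 => by interval_cases i <;> norm_num,
      Or.inl (by norm_num)⟩
  · exact ⟨73, by norm_num, by norm_num, fun i h1 h2 => by interval_cases i <;> norm_num,
      Or.inl (by norm_num)⟩
  · exact absurd (by norm_num) h2
  · exact ⟨61, by norm_num, by norm_num, fun i h1 h2 => by interval_cases i <;> norm_num,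
      Or.inl (by norm_num)⟩
  · exact ⟨41, by norm_num, by norm_num, fun i h1 h2 => by interval_cases i <;> norm_num,
      Or.inl (by norm_num)⟩
  · exact absurd (by norm_num) h2
  · exact ⟨73, by norm_num, by norm_num, fun i h1 h2 => by interval_cases i <;> norm_num,
      Or.inl (by norm_num)⟩
  · exact ⟨241, by norm_num, by norm_num, fun i h1 h2 => by interval_cases i <;> norm_num,
      Or.inl (by norm_num)⟩
  · exact ⟨43, by norm_num, by norm_num, fun i h1 h2 => by interval_cases i <;> norm_num,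
      Or.inl (by norm_num)⟩
  · exact ⟨151, by norm_num, by norm_num, fun i h1 h2 => by interval_cases i <;> norm_num,
      Or.inl (by norm_num)⟩
  · exact ⟨257, by norm_num, by norm_num, fun i h1 h2 => by interval_cases i <;> norm_num,
      Or.inl (by norm_num)⟩
  · exact absurd (by norm_num) h2
  · exact ⟨41, by norm_num, by norm_num, fun i h1 h2 => by interval_cases i <;> norm_num,
      Or.inl (by norm_num)⟩
  · exact ⟨683, by norm_num, by norm_num, fun i h1 h2 => by interval_cases i <;> norm_num,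
      Or.inl (by norm_num)⟩
  · exact ⟨241, by norm_num, by norm_num, fun i h1 h2 => by interval_cases i <;> norm_num,
      Or.inl (by norm_num)⟩
  · exact ⟨331, by norm_num, by norm_num, fun i h1 h2 => by interval_cases i <;> norm_num,
      Or.inl (by norm_num)⟩
  · exact ⟨109, by norm_num, by norm_num, fun i h1 h2 => by interval_cases i <;> norm_num,
      Or.inl (by norm_num)⟩
  · exact ⟨5419, by norm_num, by norm_num, fun i h1 h2 => by interval_cases i <;> norm_num,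
      Or.inl (by norm_num)⟩

end Cfsg.Agent.Lib.Helper77.Feit
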